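import Cfsg.Agent.Lib.QdFree.ZJStable

/-!
Enlarging a normal `p`-subgroup `Q` with `C_P(Q) ⊄ Q` to one whose normaliser still controls fusion.
-/

set_option autoImplicit false
set_option linter.style.haveILetI false

open scoped commutatorElement

universe u

namespace CfsgLib.QdFree

open Cfsg CfsgLib.NormalPComplement CfsgLib.Replacement
open CfsgLib.PushUp (cmap conj_mem_cmap cmap_mono cmap_mul cmap_inv_cmap IsFullyNormalized)

variable {p : ℕ} [hpF : Fact p.Prime]

/-- The image of a strongly closed subgroup modulo a normal subgroup of the Sylow subgroup. -/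
theorem isStronglyClosed_map_mk_pGroup {G : Type u} [Group G] {P D Q : Subgroup G} [Q.Normal]
    (hQP : Q ≤ P) (hD : IsStronglyClosed D P) :
    IsStronglyClosed (D.map (QuotientGroup.mk' Q)) (P.map (QuotientGroup.mk' Q)) := by
  refine ⟨Subgroup.map_mono hD.1, ?_⟩
  rintro _ ⟨x, hx, rfl⟩ yb hyb
  obtain ⟨y, rfl⟩ := QuotientGroup.mk'_surjective Q yb
  obtain ⟨s, hs, hse⟩ := Subgroup.mem_map.1 hyb
  rw [show QuotientGroup.mk' Q y * QuotientGroup.mk' Q x * (QuotientGroup.mk' Q y)⁻¹ =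
    QuotientGroup.mk' Q (y * x * y⁻¹) by simp] at hse ⊢
  refine ⟨_, hD.2 x hx y ?_, rfl⟩
  have h1 : s⁻¹ * (y * x * y⁻¹) ∈ Q := QuotientGroup.eq.1 hse
  have := mul_mem hs (hQP h1)
  rwa [mul_inv_cancel_left] at this

/-- When `G = C(Q) P`, the preimage of `N(zcore 0 D̄)` controls strong fusion. -/
theorem exists_conj_eq_of_centralizer_sup (hp : p ≠ 2) {Cl : ∀ (H : Type u) [Group H] [Finite H], Prop}
    (hCl : IsStableClass p Cl) {G : Type u} [Group G] [Finite G] (hG : Cl G) (P : Sylow p G)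
    {Q : Subgroup G} [hQn : Q.Normal] (hQp : IsPGroup p Q)
    (hM : Subgroup.centralizer (Q : Set G) ⊔ (P : Subgroup G) = ⊤)
    {D : Subgroup G} (hD : IsStronglyClosed D (P : Subgroup G))
    {T : Subgroup G} (hT : T ≤ (P : Subgroup G)) {g : G} (hg : cmap g T ≤ (P : Subgroup G)) :
    ∃ x : G, QuotientGroup.mk' Q x ∈
        Subgroup.normalizer (zcore 0 (D.map (QuotientGroup.mk' Q)) : Set (G ⧸ Q)) ∧
      ∀ t ∈ T, x * t * x⁻¹ = g * t * g⁻¹ := by
  set C := Subgroup.centralizer (Q : Set G) with hCdef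
  haveI : C.Normal := hCdef ▸ inferInstance
  have hQP : Q ≤ (P : Subgroup G) := hQp.le_sylow_of_normal P
  set π := QuotientGroup.mk' Q with hπ
  set Pb := P.mapSurjective (QuotientGroup.mk'_surjective Q) with hPb
  set Db := D.map π with hDb
  have hDbc : IsStronglyClosed Db (Pb : Subgroup (G ⧸ Q)) := isStronglyClosed_map_mk_pGroup hQP hD
  set e := 0 with he
  set Xb := zcore e Db with hXb
  set NX := (Subgroup.normalizer (Xb : Set (G ⧸ Q))).comap π with hNX
  have hPNX : (P : Subgroup G) ≤ NX := by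
    intro s hs
    refine normalizer_le_normalizer_zcore e Db (Subgroup.mem_normalizer_fintype fun z hz =>
      hDbc.2 z hz (π s) ?_)
    exact mul_mem (mul_mem ⟨s, hs, rfl⟩ (hDbc.1 hz)) (inv_mem ⟨s, hs, rfl⟩)
  have hcent : ∀ b : G, (orderOf b).Coprime p → b ∈ C := by
    intro b hb
    have hq : IsPGroup p (G ⧸ C) := by
      refine P.2.of_surjective ((QuotientGroup.mk' C).comp (P : Subgroup G).subtype) fun y => ?_
      obtain ⟨x, rfl⟩ := QuotientGroup.mk_surjective y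
      obtain ⟨c, hc, s, hs, rfl⟩ := Subgroup.mem_sup_of_normal_left.1 (hM ▸ Subgroup.mem_top x)
      refine ⟨⟨s, hs⟩, ?_⟩
      show QuotientGroup.mk' C s = QuotientGroup.mk' C (c * s)
      rw [map_mul, show QuotientGroup.mk' C c = 1 from (QuotientGroup.eq_one_iff c).2 hc, one_mul]
    exact (QuotientGroup.eq_one_iff b).1 (map_eq_one_of_coprime_orderOf hq (QuotientGroup.mk' C) hb)
  let Rel : Subgroup G → G → Prop := fun T g =>
    ∃ x ∈ NX, ∀ t ∈ T, x * t * x⁻¹ = g * t * g⁻¹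
  have hRel : CfsgLib.PushUp.IsFusionRel (P : Subgroup G) Rel := by
    refine ⟨fun hle ⟨x, hx, h⟩ => ⟨x, hx, fun t ht => h t (hle ht)⟩, ?_, ?_⟩
    · rintro T g h - - ⟨x, hx, hxe⟩ ⟨y, hy, hye⟩
      refine ⟨y * x, mul_mem hy hx, fun t ht => ?_⟩
      calc y * x * t * (y * x)⁻¹ = y * (x * t * x⁻¹) * y⁻¹ := by group
        _ = h * (g * t * g⁻¹) * h⁻¹ := by rw [hxe t ht, hye _ (conj_mem_cmap ht)]
        _ = h * g * t * (h * g)⁻¹ := by group
    · rintro T g - - ⟨x, hx, hxe⟩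
      refine ⟨x⁻¹, inv_mem hx, ?_⟩
      rintro _ ⟨t, ht, rfl⟩
      show x⁻¹ * (g * t * g⁻¹) * x⁻¹⁻¹ = g⁻¹ * (g * t * g⁻¹) * g⁻¹⁻¹
      rw [← hxe t ht]
      conv_rhs => rw [hxe t ht]
      group
  suffices Rel T g from this
  refine CfsgLib.PushUp.fusion_induction P hRel (IsFullyNormalized p (P : Subgroup G)) (fun _ h => h)
    (fun T hT => ⟨_, (CfsgLib.PushUp.exists_fullyNormalized_conj P hT).choose_spec.1⟩)
    (fun V hV big n hn => ?_) T g hT hg
  have hnQ : cmap n Q = Q :=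
    CfsgLib.PushUp.cmap_eq_of_mem_normalizer (by rw [Subgroup.normalizer_eq_top]; trivial)
  have hnV : cmap n V = V := CfsgLib.PushUp.cmap_eq_of_mem_normalizer hn
  by_cases hQV : Q ≤ V
  swap
  · refine hRel.mono le_sup_left (big (V ⊔ Q) n ?_ (sup_le hV.1 hQP) ?_)
    · refine lt_of_le_of_ne (Subgroup.card_le_of_le le_sup_left) fun h => hQV ?_
      have := Subgroup.eq_of_le_of_card_ge (le_sup_left : V ≤ V ⊔ Q) h.ge
      exact le_sup_right.trans this.ge
    · rw [cmap, Subgroup.map_sup]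
      exact sup_le (hnV.le.trans hV.1) (hnQ.le.trans hQP)
  obtain ⟨xb, hxb, hxbe⟩ := exists_normalizer_zcore_conj_eq_of_class hp hCl (Or.inl rfl)
    (hCl.quotient G Q hQp hcent hG) Pb hDbc (T := V.map π) (g := π n)
    (Subgroup.map_mono hV.1) (by
      rintro _ ⟨_, ⟨v, hv, rfl⟩, rfl⟩
      show π n * π v * (π n)⁻¹ ∈ (Pb : Subgroup (G ⧸ Q))
      rw [← map_inv, ← map_mul, ← map_mul]
      exact ⟨_, hV.1 (hnV ▸ conj_mem_cmap hv), rfl⟩)
  obtain ⟨x, rfl⟩ := QuotientGroup.mk'_surjective Q xb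
  have hxX : x ∈ NX := hxb
  set c := x⁻¹ * n with hcdef
  have hcmod : ∀ v ∈ V, c * v * c⁻¹ * v⁻¹ ∈ Q := by
    intro v hv
    refine (QuotientGroup.eq_one_iff _).1 ?_
    show π (c * v * c⁻¹ * v⁻¹) = 1
    have h1 := hxbe (π v) ⟨v, hv, rfl⟩
    simp only [hcdef, map_mul, map_inv]
    rw [show (π x)⁻¹ * π n * π v * ((π x)⁻¹ * π n)⁻¹
      = (π x)⁻¹ * (π n * π v * (π n)⁻¹) * π x by group, ← h1]
    group
    simp [hπ]
  have hcN : c ∈ Subgroup.normalizer (V : Set G) := Subgroup.mem_normalizer_fintype fun v hv => by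
    have := mul_mem (hQV (hcmod v hv)) hv
    rwa [inv_mul_cancel_right] at this
  -- the subgroup `A` acting trivially on `V / Q`
  set A := Subgroup.normalizer (V : Set G) ⊓
    (Subgroup.centralizer ((V.map π : Subgroup (G ⧸ Q)) : Set (G ⧸ Q))).comap π with hA
  have hmemA : ∀ a : G, a ∈ A ↔
      a ∈ Subgroup.normalizer (V : Set G) ∧ ∀ v ∈ V, a * v * a⁻¹ * v⁻¹ ∈ Q := by
    intro a
    rw [hA, Subgroup.mem_inf, Subgroup.mem_comap, Subgroup.mem_centralizer_iff]
    refine and_congr_right fun _ => ⟨fun h v hv => (QuotientGroup.eq_one_iff _).1 ?_, ?_⟩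
    · show π (a * v * a⁻¹ * v⁻¹) = 1
      rw [map_mul, map_mul, map_mul, map_inv, map_inv, ← h (π v) ⟨v, hv, rfl⟩]
      group
    · rintro h _ ⟨v, hv, rfl⟩
      have h1 : π (a * v * a⁻¹ * v⁻¹) = 1 := (QuotientGroup.eq_one_iff _).2 (h v hv)
      rw [map_mul, map_mul, map_mul, map_inv, map_inv, mul_inv_eq_one, mul_inv_eq_iff_eq_mul] at h1
      exact h1.symm
  have hcA : c ∈ A := (hmemA c).2 ⟨hcN, hcmod⟩
  set CV := Subgroup.centralizer (V : Set G) with hCV
  have hCVA : CV ≤ A := fun a ha => (hmemA a).2 ⟨Subgroup.centralizer_le_normalizer _ ha,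
    fun v hv => by rw [← Subgroup.mem_centralizer_iff.1 ha v hv]; simp⟩
  set NV := Subgroup.normalizer (V : Set G) with hNV
  have hAn : (A.subgroupOf NV).Normal := ⟨fun a ha m => by
    refine (hmemA _).2 ⟨(m * a * m⁻¹ : NV).2, fun v hv => ?_⟩
    have hv' : (m : G)⁻¹ * v * m ∈ V := by
      simpa using (Subgroup.mem_normalizer_iff.1 (inv_mem m.2) v).1 hv
    have h1 := (inferInstance : Q.Normal).conj_mem _ (((hmemA _).1 ha).2 _ hv') (m : G)
    simpa [mul_assoc] using h1⟩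
  have hRi : ¬ p ∣ ((P : Subgroup G) ⊓ A).relIndex A := by
    have hRp : IsPGroup p (((P : Subgroup G) ⊓ NV).subgroupOf NV) :=
      (P.2.to_le inf_le_left).of_equiv (Subgroup.subgroupOfEquivOfLe inf_le_right).symm
    let S : Sylow p NV := hRp.toSylow hV.2
    haveI := hAn
    have h1 := not_dvd_relIndex_inf_normal S (A.subgroupOf NV)
    have h2 : ((S : Subgroup NV) ⊓ A.subgroupOf NV).map NV.subtype = (P : Subgroup G) ⊓ A := by
      show (((P : Subgroup G) ⊓ NV).subgroupOf NV ⊓ A.subgroupOf NV).map NV.subtype = _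
      rw [Subgroup.map_inf _ _ _ NV.subtype_injective,
        Subgroup.map_subgroupOf_eq_of_le inf_le_right, Subgroup.map_subgroupOf_eq_of_le inf_le_left,
        inf_assoc, inf_eq_right.2 (inf_le_left : A ≤ NV)]
    rwa [← Subgroup.relIndex_map_map_of_injective _ _ NV.subtype_injective, h2,
      Subgroup.map_subgroupOf_eq_of_le inf_le_left] at h1
  haveI hCVn : (CV.subgroupOf A).Normal := ⟨fun z hz a => by
    rw [Subgroup.mem_subgroupOf, hCV, Subgroup.mem_centralizer_iff]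
    intro v hv
    have hv' : (a : G)⁻¹ * v * a ∈ V := by
      simpa using (Subgroup.mem_normalizer_iff.1 (inv_mem ((hmemA _).1 a.2).1) v).1 hv
    have h1 := Subgroup.mem_centralizer_iff.1 (Subgroup.mem_subgroupOf.1 hz) _ hv'
    show v * ((a : G) * z * (a : G)⁻¹) = (a : G) * z * (a : G)⁻¹ * v
    calc v * ((a : G) * z * (a : G)⁻¹) = (a : G) * ((a : G)⁻¹ * v * a * z) * (a : G)⁻¹ := by group
      _ = _ := by rw [h1]; group⟩
  have hpq : IsPGroup p (A ⧸ CV.subgroupOf A) := by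
    intro q
    obtain ⟨a, rfl⟩ := QuotientGroup.mk_surjective q
    obtain ⟨i, hi⟩ := exists_pow_coprime_orderOf (p := p) (isOfFinOrder_of_finite a)
    refine ⟨i, (QuotientGroup.eq_one_iff _).2 ?_⟩
    rw [Subgroup.mem_subgroupOf, hCV, Subgroup.mem_centralizer_iff]
    intro v hv
    set b : G := ((a ^ p ^ i : A) : G)
    have hb : (orderOf b).Coprime p := by
      rwa [Subgroup.orderOf_coe]
    set y := b * v * b⁻¹ * v⁻¹ with hy
    have hyQ : y ∈ Q := ((hmemA b).1 (a ^ p ^ i : A).2).2 v hv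
    have hfix : b * y * b⁻¹ = y := by
      rw [← Subgroup.mem_centralizer_iff.1 (hcent b hb) y hyQ]; group
    have h1 := conj_pow_right hfix (show b * v * b⁻¹ = y * v by rw [hy]; group) (orderOf b)
    simp only [pow_orderOf_eq_one, one_mul, inv_one, mul_one, right_eq_mul] at h1
    obtain ⟨k, hk⟩ := hQp ⟨y, hyQ⟩
    have hy1 : y = 1 := orderOf_eq_one_iff.1 (Nat.eq_one_of_dvd_coprimes (hb.pow_right k)
      (orderOf_dvd_of_pow_eq_one h1) (orderOf_dvd_of_pow_eq_one (congrArg Subtype.val hk)))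
    rw [hy, mul_inv_eq_one, mul_inv_eq_iff_eq_mul] at hy1
    exact hy1.symm
  have hsup : CV ⊔ ((P : Subgroup G) ⊓ A) = A := by
    refine le_antisymm (sup_le hCVA inf_le_right) ?_
    rw [← Subgroup.relIndex_eq_one]
    obtain ⟨k, hk⟩ := IsPGroup.iff_card.1 hpq
    have h1 : (CV ⊔ ((P : Subgroup G) ⊓ A)).relIndex A ∣ p ^ k := by
      refine dvd_trans (Subgroup.relIndex_dvd_of_le_left A le_sup_left) ?_
      rw [Subgroup.relIndex, Subgroup.index, hk]
    refine Nat.eq_one_of_dvd_coprimes ?_ h1 dvd_rfl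
    refine Nat.Coprime.pow_left k ((Nat.Prime.coprime_iff_not_dvd Fact.out).2 fun hd => hRi ?_)
    exact hd.trans (Subgroup.relIndex_dvd_of_le_left A le_sup_right)
  obtain ⟨d, hd, s, hs, hds⟩ : ∃ d ∈ CV, ∃ s ∈ (P : Subgroup G) ⊓ A, d * s = c := by
    have h1 : c ∈ CV ⊔ ((P : Subgroup G) ⊓ A) := by rw [hsup]; exact hcA
    have h2 : (P : Subgroup G) ⊓ A ≤ Subgroup.normalizer (CV : Set G) := fun s hs =>
      Subgroup.mem_normalizer_fintype fun z hz => Subgroup.mem_subgroupOf.1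
        (hCVn.conj_mem ⟨z, hCVA hz⟩ hz ⟨s, hs.2⟩)
    rw [← SetLike.mem_coe, Subgroup.coe_mul_of_right_le_normalizer_left _ _ h2] at h1
    exact Set.mem_mul.1 h1
  have heq : ∀ v ∈ V, x * s * v * (x * s)⁻¹ = n * v * n⁻¹ := by
    intro v hv
    have h1 : s * v * s⁻¹ ∈ V := (Subgroup.mem_normalizer_iff.1 ((hmemA s).1 hs.2).1 v).1 hv
    have h2 := Subgroup.mem_centralizer_iff.1 hd _ h1
    rw [show n = x * c by rw [hcdef]; group, ← hds]
    calc x * s * v * (x * s)⁻¹ = x * (s * v * s⁻¹ * d) * d⁻¹ * x⁻¹ := by group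
      _ = _ := by rw [h2]; group
  exact ⟨x * s, mul_mem hxX (hPNX hs.1), heq⟩

/-- If the centralizer of a normal `p`-subgroup `Q` has a Sylow subgroup not in `Q`, a larger
`p`-subgroup normalised by `P` has a normalizer controlling fusion. -/
theorem exists_larger_control (hp : p ≠ 2) {Cl : ∀ (H : Type u) [Group H] [Finite H], Prop}
    (hCl : IsStableClass p Cl) {G : Type u} [Group G] [Finite G] (hG : Cl G) (P : Sylow p G)
    {Q : Subgroup G} [hQn : Q.Normal] (hQp : IsPGroup p Q)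
    (hne : ¬ (P : Subgroup G) ⊓ Subgroup.centralizer (Q : Set G) ≤ Q) :
    ∃ R : Subgroup G, Q < R ∧ R ≤ (P : Subgroup G) ∧ (P : Subgroup G) ≤ Subgroup.normalizer (R : Set G) ∧
      ∀ T : Subgroup G, T ≤ (P : Subgroup G) → ∀ g : G, cmap g T ≤ (P : Subgroup G) →
        ∃ x ∈ Subgroup.normalizer (R : Set G), ∀ t ∈ T, x * t * x⁻¹ = g * t * g⁻¹ := by
  set C := Subgroup.centralizer (Q : Set G) with hCdef
  haveI : C.Normal := hCdef ▸ inferInstance
  have hQP : Q ≤ (P : Subgroup G) := hQp.le_sylow_of_normal P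
  set D := (P : Subgroup G) ⊓ C with hDdef
  have hD : IsStronglyClosed D (P : Subgroup G) :=
    ⟨inf_le_left, fun x hx y hy => ⟨hy, (inferInstance : C.Normal).conj_mem x hx.2 y⟩⟩
  set π := QuotientGroup.mk' Q with hπ
  set Pb := P.mapSurjective (QuotientGroup.mk'_surjective Q) with hPb
  set Db := D.map π with hDb
  have hDbne : Db ≠ ⊥ := fun h => hne fun x hx =>
    (QuotientGroup.eq_one_iff x).1 (Subgroup.mem_bot.1 (h ▸ ⟨x, hx, rfl⟩ : π x ∈ (⊥ : Subgroup (G ⧸ Q))))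
  have hDbp : IsPGroup p Db := (P.2.to_le hD.1).map π
  set Xb := zcore 0 Db with hXb
  have hXne : Xb ≠ ⊥ := zcore_ne_bot (dvd_zero p) hDbp hDbne
  set R := Xb.comap π with hR
  set NX := (Subgroup.normalizer (Xb : Set (G ⧸ Q))).comap π with hNX
  have hNXR : NX ≤ Subgroup.normalizer (R : Set G) := fun x hx =>
    Subgroup.mem_normalizer_fintype fun r hr => by
      have := (Subgroup.mem_normalizer_iff.1 hx (π r)).1 hr
      rwa [← map_inv, ← map_mul, ← map_mul] at this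
  have hN1 : Subgroup.normalizer (D : Set G) ≤ NX := fun x hx => by
    refine normalizer_le_normalizer_zcore 0 Db (Subgroup.mem_normalizer_fintype ?_)
    rintro _ ⟨z, hz, rfl⟩
    exact ⟨x * z * x⁻¹, (Subgroup.mem_normalizer_iff.1 hx z).1 hz, by simp⟩
  have hPN1 : (P : Subgroup G) ≤ Subgroup.normalizer (D : Set G) := fun y hy => by
    refine Subgroup.mem_normalizer_fintype fun z hz => hD.2 z hz y ?_
    exact (P : Subgroup G).mul_mem ((P : Subgroup G).mul_mem hy hz.1) ((P : Subgroup G).inv_mem hy)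
  have hPNX := hPN1.trans hN1
  have hQR : Q ≤ R := fun q hq => by
    show π q ∈ Xb
    rw [show π q = 1 from (QuotientGroup.eq_one_iff q).2 hq]
    exact one_mem _
  refine ⟨R, lt_of_le_of_ne hQR fun e => hXne ?_, ?_, hPNX.trans hNXR, fun T hT g hg => ?_⟩
  · rw [← Subgroup.map_comap_eq_self_of_surjective (QuotientGroup.mk'_surjective Q) Xb, ← hπ, ← hR, ← e]
    exact (Subgroup.map_eq_bot_iff _).2 (by rw [hπ, QuotientGroup.ker_mk'])
  · intro r hr
    obtain ⟨s, hs, hse⟩ := Subgroup.map_mono hD.1 (zcore_le 0 Db hr)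
    have := mul_mem hs (hQP (QuotientGroup.eq.1 hse))
    rwa [mul_inv_cancel_left] at this
  set N1 := Subgroup.normalizer (D : Set G) with hN1def
  set M := C ⊔ (P : Subgroup G) with hMdef
  -- `g = n c` with `c ∈ C(Q)` and `n ∈ N(P ∩ C(Q))`
  have hgC : cmap g D ≤ C := by
    rintro _ ⟨z, hz, rfl⟩
    exact (inferInstance : C.Normal).conj_mem z hz.2 g
  have hCPi := not_dvd_relIndex_inf_normal P C
  have hgi : ¬ p ∣ (cmap g D).relIndex C := by
    rw [show C = cmap g C from (CfsgLib.PushUp.cmap_eq_of_mem_normalizer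
      (by rw [Subgroup.normalizer_eq_top]; trivial)).symm,
      Subgroup.relIndex_map_map_of_injective _ _ (MulAut.conj g).injective]
    exact hCPi
  obtain ⟨c0, hc0, hc0e⟩ := CfsgLib.PushUp.exists_cmap_eq hgC
    ((P.2.to_le inf_le_left).map _) hgi inf_le_right (P.2.to_le inf_le_left) hCPi
  rw [← cmap_mul] at hc0e
  have hn : c0 * g ∈ N1 := CfsgLib.PushUp.mem_normalizer_of_cmap_eq hc0e
  set n := c0 * g
  set c := n⁻¹ * c0⁻¹ * n with hc
  have hcC : c ∈ C := by
    simpa [hc] using (inferInstance : C.Normal).conj_mem _ (inv_mem hc0) n⁻¹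
  have hgnc : g = n * c := by rw [hc]; simp only [n]; group
  have hcT : cmap c T ≤ M ⊓ N1 := by
    refine le_inf ?_ ?_
    · rintro _ ⟨t, ht, rfl⟩
      exact mul_mem (mul_mem (Subgroup.mem_sup_left hcC) (Subgroup.mem_sup_right (hT ht)))
        (inv_mem (Subgroup.mem_sup_left hcC))
    · have h1 := cmap_mono n⁻¹ (hg.trans hPN1)
      rwa [hgnc, cmap_mul, cmap_inv_cmap,
        CfsgLib.PushUp.cmap_eq_of_mem_normalizer (Subgroup.le_normalizer (inv_mem hn))] at h1
  obtain ⟨m, hm, hmle⟩ := CfsgLib.PushUp.exists_cmap_le hcT ((P.2.to_le hT).map _)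
    (le_inf le_sup_right hPN1) P.2 fun hd =>
      P.not_dvd_index (hd.trans (Subgroup.relIndex_dvd_index_of_le (le_inf le_sup_right hPN1)))
  rw [← cmap_mul] at hmle
  have hmcM : m * c ∈ M := mul_mem hm.1 (Subgroup.mem_sup_left hcC)
  -- inside `M`
  have hQM : Q ≤ M := hQP.trans le_sup_right
  let PM : Sylow p M := P.subtype le_sup_right
  haveI : (Q.subgroupOf M).Normal := inferInstance
  have hMtop : Subgroup.centralizer ((Q.subgroupOf M : Subgroup M) : Set M) ⊔ (PM : Subgroup M) = ⊤ := by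
    have h1 : C.subgroupOf M ≤ Subgroup.centralizer ((Q.subgroupOf M : Subgroup M) : Set M) :=
      fun z hz => Subgroup.mem_centralizer_iff.2 fun q hq =>
        Subtype.ext (Subgroup.mem_centralizer_iff.1 (Subgroup.mem_subgroupOf.1 hz) _ hq)
    refine top_le_iff.1 (le_trans ?_ (sup_le_sup_right h1 _))
    rw [Sylow.coe_subtype, ← Subgroup.subgroupOf_sup le_sup_left le_sup_right, Subgroup.subgroupOf_self]
  obtain ⟨y, hy, hye⟩ := exists_conj_eq_of_centralizer_sup hp hCl (hCl.subgroup G M hG) PM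
    (Q := Q.subgroupOf M) (hQp.of_equiv (Subgroup.subgroupOfEquivOfLe hQM).symm) hMtop
    (D := D.subgroupOf M) (by rw [Sylow.coe_subtype]; exact isStronglyClosed_subgroupOf hD)
    (T := T.subgroupOf M) (g := ⟨m * c, hmcM⟩) (by rw [Sylow.coe_subtype]; exact fun t ht => hT ht)
    (by
      rintro _ ⟨t, ht, rfl⟩
      rw [Sylow.coe_subtype]
      exact hmle (conj_mem_cmap (g := m * c) ht))
  let j : M ⧸ Q.subgroupOf M →* G ⧸ Q := QuotientGroup.map _ Q M.subtype fun q hq => hq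
  have hj : Function.Injective j := by
    refine (injective_iff_map_eq_one j).2 ?_
    rintro ⟨z⟩ hz
    exact (QuotientGroup.eq_one_iff z).2 (Subgroup.mem_subgroupOf.2 ((QuotientGroup.eq_one_iff (z : G)).1 hz))
  have hDj : ((D.subgroupOf M).map (QuotientGroup.mk' (Q.subgroupOf M))).map j = Db := by
    rw [hDb, Subgroup.map_map, ← Subgroup.map_subgroupOf_eq_of_le (hD.1.trans (le_sup_right : _ ≤ M)),
      Subgroup.map_map]
    congr 1
    rw [Subgroup.map_subgroupOf_eq_of_le (hD.1.trans (le_sup_right : _ ≤ M))]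
  have hyX : (y : G) ∈ NX := by
    show j (QuotientGroup.mk' (Q.subgroupOf M) y) ∈ Subgroup.normalizer (Xb : Set (G ⧸ Q))
    rw [hXb, ← hDj, map_zcore_injective 0 _ j hj]
    exact Subgroup.le_normalizer_map j ⟨_, hy, rfl⟩
  have hg' : g = n * m⁻¹ * (m * c) := by rw [hgnc]; group
  refine ⟨n * m⁻¹ * y, hNXR (mul_mem (hN1 (mul_mem hn (inv_mem hm.2))) hyX), fun t ht => ?_⟩
  have h1 : (y : G) * t * (y : G)⁻¹ = m * c * t * (m * c)⁻¹ :=
    congrArg Subtype.val (hye ⟨t, (hT.trans le_sup_right) ht⟩ ht)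
  calc n * m⁻¹ * y * t * (n * m⁻¹ * y)⁻¹ = n * m⁻¹ * (y * t * (y : G)⁻¹) * (n * m⁻¹)⁻¹ := by group
    _ = g * t * g⁻¹ := by rw [h1, hg']; group

end CfsgLib.QdFree
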