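import Cfsg.Agent.Lib.QdFree.Involve
import Cfsg.Agent.Lib.ThompsonJ.Quadratic
import Cfsg.Agent.Lib.Subnormal.BaerSuzuki

/-!
`Qd(p)`-free groups are `p`-stable (`p` odd), and `Qd(p)` itself is not.
-/

set_option autoImplicit false
set_option linter.style.haveILetI false

open scoped MatrixGroups commutatorElement IsMulCommutative

namespace CfsgLib.QdFree

open Cfsg

universe u

variable {X : Type u} [Group X] [Finite X] {p : ℕ} [hp : Fact p.Prime]

/-- Two quadratic elements without common invariant subgroup on an elementary abelian group, the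
first acting non-trivially, make `Qd(p)` involved. -/
theorem involves_qd_of_quadratic_irreducible (hp2 : p ≠ 2) {V : Subgroup X} [IsMulCommutative V]
    (hVp : ∀ v ∈ V, v ^ p = 1) {g h : X} (hg : g ∈ Subgroup.normalizer (V : Set X))
    (hh : h ∈ Subgroup.normalizer (V : Set X)) (hqg : ∀ v ∈ V, ⁅⁅v, g⁆, g⁆ = 1)
    (hqh : ∀ v ∈ V, ⁅⁅v, h⁆, h⁆ = 1) (hgV : g ∉ Subgroup.centralizer (V : Set X))
    (hirr : ∀ W : Subgroup X, W ≤ V → g ∈ Subgroup.normalizer (W : Set X) →
      h ∈ Subgroup.normalizer (W : Set X) → W = ⊥ ∨ W = V) :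
    Involves ↥(Cfsg.qd p) X := by
  classical
  let ρ : Subgroup.normalizer (V : Set X) →* AddMonoid.End (Additive V) :=
    { toFun := fun n => (Subgroup.normalizerMonoidHom V n).toMonoidHom.toAdditive
      map_one' := by rw [map_one]; rfl
      map_mul' := fun a b => by rw [map_mul]; rfl }
  have hρ : ∀ n a, (((ρ n a : Additive V).toMul : V) : X) =
      (n : X) * ((a.toMul : V) : X) * (n : X)⁻¹ := fun n a => rfl
  have hA : ∀ a : Additive V, p • a = 0 := fun a => by
    apply Additive.toMul.injective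
    exact Subtype.ext (hVp _ a.toMul.2)
  have hquad : ∀ n : Subgroup.normalizer (V : Set X), (∀ v ∈ V, ⁅⁅v, (n : X)⁆, (n : X)⁆ = 1) →
      (ρ n - 1) * (ρ n - 1) = 0 := by
    intro n hn
    refine AddMonoidHom.ext fun a => ?_
    show ρ n (ρ n a - a) - (ρ n a - a) = 0
    rw [sub_eq_zero]
    apply Additive.toMul.injective
    apply Subtype.ext
    rw [hρ]
    have hval : (((ρ n a - a).toMul : V) : X) = ⁅((a.toMul : V) : X), (n : X)⁆⁻¹ := by
      rw [toMul_sub, div_eq_mul_inv, Subgroup.coe_mul, Subgroup.coe_inv, hρ, commutatorElement_def]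
      group
    rw [hval]
    have hc : Commute (n : X) ⁅((a.toMul : V) : X), (n : X)⁆⁻¹ :=
      (commutatorElement_eq_one_iff_commute.1 (hn _ a.toMul.2)).symm.inv_right
    rw [hc.eq, mul_inv_cancel_right]
  have hα0 : ρ ⟨g, hg⟩ - 1 ≠ 0 := by
    intro h0
    refine hgV fun v hv => ?_
    rw [sub_eq_zero] at h0
    have h1 := congrArg (fun f : AddMonoid.End (Additive V) =>
      (((f (Additive.ofMul ⟨v, hv⟩)).toMul : V) : X)) h0
    simp only [hρ, toMul_ofMul] at h1
    exact (mul_inv_eq_iff_eq_mul.1 (h1 : g * v * g⁻¹ = v)).symm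
  have hirr' : ∀ W : AddSubgroup (Additive V), (∀ x ∈ W, (ρ ⟨g, hg⟩ - 1) x ∈ W) →
      (∀ x ∈ W, (ρ ⟨h, hh⟩ - 1) x ∈ W) → W = ⊥ ∨ W = ⊤ := by
    intro W hWg hWh
    let W' : Subgroup X := (AddSubgroup.toSubgroup' W).map V.subtype
    have hnorm : ∀ n : Subgroup.normalizer (V : Set X), (∀ x ∈ W, (ρ n - 1) x ∈ W) →
        (n : X) ∈ Subgroup.normalizer (W' : Set X) := by
      intro n hn
      refine Subgroup.mem_normalizer_iff_map_conj_eq.2 ?_
      refine Subgroup.eq_of_le_of_card_ge ?_ (le_of_eq (Nat.card_congr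
        (Subgroup.equivMapOfInjective W' (MulAut.conj (n : X)).toMonoidHom
          (MulAut.conj (n : X)).injective).toEquiv))
      rintro _ ⟨_, ⟨v, hv, rfl⟩, rfl⟩
      refine ⟨(ρ n (Additive.ofMul v)).toMul, ?_, rfl⟩
      show ρ n (Additive.ofMul v) ∈ W
      have hv' : Additive.ofMul v ∈ W := hv
      have h1 : ρ n (Additive.ofMul v) - Additive.ofMul v ∈ W := hn _ hv
      simpa using add_mem h1 hv'
    rcases hirr W' (Subgroup.map_subtype_le _) (hnorm ⟨g, hg⟩ hWg) (hnorm ⟨h, hh⟩ hWh) with e | e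
    · refine Or.inl (eq_bot_iff.2 fun a ha => ?_)
      have : ((a.toMul : V) : X) ∈ W' := ⟨a.toMul, ha, rfl⟩
      rw [e, Subgroup.mem_bot] at this
      exact AddSubgroup.mem_bot.2 (Additive.toMul.injective (Subtype.ext this))
    · refine Or.inr (eq_top_iff.2 fun a _ => ?_)
      obtain ⟨v, hv, hva⟩ : ((a.toMul : V) : X) ∈ W' := e.symm ▸ a.toMul.2
      exact (show a = Additive.ofMul v from Additive.toMul.injective (Subtype.ext hva.symm)) ▸ hv
  obtain ⟨γ, hγ, hαγ, hmem⟩ := exists_dual_quadratic hp2 hA (hquad ⟨g, hg⟩ hqg) (hquad ⟨h, hh⟩ hqh)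
    hα0 hirr'
  rw [add_sub_cancel, add_sub_cancel, ← Set.image_pair, ← MonoidHom.map_mclosure] at hmem
  obtain ⟨c, -, hc⟩ := hmem
  set α := ρ ⟨g, hg⟩ - 1 with hαdef
  obtain ⟨x, hx0, hαx⟩ : ∃ x, x ≠ 0 ∧ α x = 0 := by
    by_contra hne
    push Not at hne
    refine hα0 (AddMonoidHom.ext fun a => ?_)
    by_contra ha
    exact hne _ ha (congrArg (fun f : AddMonoid.End (Additive V) => f a) (hquad ⟨g, hg⟩ hqg))
  set y := γ x
  have hαy : α y = x := by
    have := congrArg (fun f : AddMonoid.End (Additive V) => f x) hαγ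
    change α y + γ (α x) = x at this
    rwa [hαx, map_zero, add_zero] at this
  have hγy : γ y = 0 := congrArg (fun f : AddMonoid.End (Additive V) => f x) hγ
  have hg1 : ∀ a, ρ ⟨g, hg⟩ a = a + α a := fun a => by
    show _ = a + (ρ ⟨g, hg⟩ a - a)
    abel
  have hc1 : ∀ a, ρ c a = a + γ a := fun a =>
    congrArg (fun f : AddMonoid.End (Additive V) => f a) hc
  have coe_add : ∀ a b : Additive V, (((a + b).toMul : V) : X) =
      ((a.toMul : V) : X) * ((b.toMul : V) : X) := fun a b => rfl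
  refine involves_qd_of_natural_pair hp2 (g := g) (c := (c : X)) (x := ((x.toMul : V) : X))
    (y := ((y.toMul : V) : X)) ?_ (hVp _ x.toMul.2) (hVp _ y.toMul.2) ?_ ?_ ?_ ?_ ?_ ?_
  · exact congrArg Subtype.val (mul_comm' x.toMul y.toMul)
  · exact fun h => hx0 (Additive.toMul.injective (Subtype.ext h))
  · rintro ⟨i, hi⟩
    have hyi : y = i • x := Additive.toMul.injective (Subtype.ext (by simpa using hi.symm))
    rw [hyi, map_zsmul, hαx, smul_zero] at hαy
    exact hx0 hαy.symm
  · exact (hρ ⟨g, hg⟩ x).symm.trans (by rw [hg1, hαx, add_zero])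
  · exact (hρ ⟨g, hg⟩ y).symm.trans (by rw [hg1, hαy, add_comm, coe_add])
  · exact (hρ c x).symm.trans (by rw [hc1, coe_add])
  · exact (hρ c y).symm.trans (by rw [hc1, hγy, add_zero])

/-- Two quadratic elements generating a group which does not act as a `p`-group make `Qd(p)`
involved. -/
theorem involves_qd_of_quadratic_pair (hp2 : p ≠ 2) {P : Subgroup X} (hP : IsPGroup p P) {g h : X}
    (hg : g ∈ Subgroup.normalizer (P : Set X)) (hh : h ∈ Subgroup.normalizer (P : Set X))
    (hqg : ∀ v ∈ P, ⁅⁅v, g⁆, g⁆ = 1) (hqh : ∀ v ∈ P, ⁅⁅v, h⁆, h⁆ = 1) {c : X}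
    (hc : c ∈ Subgroup.closure ({g, h} : Set X))
    (hck : ∀ k : ℕ, c ^ p ^ k ∉ Subgroup.centralizer (P : Set X)) :
    Involves ↥(Cfsg.qd p) X := by
  classical
  obtain ⟨n, hn⟩ : ∃ n, Nat.card P ≤ n := ⟨_, le_rfl⟩
  induction n generalizing X with
  | zero => exact absurd Nat.card_pos (not_lt.2 hn)
  | succ n ih =>
    have hPne : Nontrivial P := by
      rw [Subgroup.nontrivial_iff_ne_bot]
      rintro rfl
      exact hck 0 fun v hv => by rw [Subgroup.mem_bot.1 hv]; simp
    let Z0 : Subgroup X :=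
      { carrier := {v | v ∈ P ∧ (∀ u ∈ P, u * v = v * u) ∧ v ^ p = 1}
        one_mem' := ⟨one_mem _, by simp, one_pow _⟩
        mul_mem' := fun {a b} ha hb => ⟨mul_mem ha.1 hb.1, fun u hu => by
          rw [← mul_assoc, ha.2.1 u hu, mul_assoc, hb.2.1 u hu, mul_assoc], by
          rw [(show Commute a b from hb.2.1 a ha.1).mul_pow, ha.2.2, hb.2.2, one_mul]⟩
        inv_mem' := fun {a} ha => ⟨inv_mem ha.1, fun u hu =>
          ((show Commute u a from ha.2.1 u hu).inv_right).eq, by rw [inv_pow, ha.2.2, inv_one]⟩ }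
    have hZnorm : ∀ k ∈ Subgroup.normalizer (P : Set X), k ∈ Subgroup.normalizer (Z0 : Set X) := by
      have key : ∀ k ∈ Subgroup.normalizer (P : Set X), ∀ v ∈ Z0, k * v * k⁻¹ ∈ Z0 := by
        intro k hk v hv
        refine ⟨(Subgroup.mem_normalizer_iff.1 hk v).1 hv.1, fun u hu => ?_, by
          rw [conj_pow, hv.2.2, mul_one, mul_inv_cancel]⟩
        have hu' : k⁻¹ * u * k ∈ P := (Subgroup.mem_normalizer_iff''.1 hk u).1 hu
        calc u * (k * v * k⁻¹) = k * ((k⁻¹ * u * k) * v) * k⁻¹ := by group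
          _ = k * v * k⁻¹ * u := by rw [hv.2.1 _ hu']; group
      intro k hk
      refine Subgroup.mem_normalizer_iff.2 fun v => ⟨key k hk v, fun hv => ?_⟩
      have := key _ (inv_mem hk) _ hv
      rwa [show k⁻¹ * (k * v * k⁻¹) * k⁻¹⁻¹ = v by group] at this
    have hZne : Z0 ≠ ⊥ := by
      haveI := hP.center_nontrivial
      obtain ⟨z, hz⟩ := exists_prime_orderOf_dvd_card' (G := Subgroup.center P) p
        (by
          obtain ⟨k, hk⟩ := IsPGroup.iff_card.1 (hP.to_subgroup (Subgroup.center P))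
          rw [hk]
          refine dvd_pow_self _ fun h0 => ?_
          rw [h0, pow_zero] at hk
          exact absurd hk (Finite.one_lt_card (α := Subgroup.center P)).ne')
      intro h0
      have hzmem : ((z : P) : X) ∈ Z0 := ⟨(z : P).2, fun u hu =>
        congrArg Subtype.val (Subgroup.mem_center_iff.1 z.2 ⟨u, hu⟩), by
          have := pow_orderOf_eq_one z
          rw [hz] at this
          simpa using congrArg (fun t : Subgroup.center P => ((t : P) : X)) this⟩
      rw [h0, Subgroup.mem_bot] at hzmem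
      have hz1 : z = 1 := Subtype.ext (Subtype.ext hzmem)
      rw [hz1, orderOf_one] at hz
      exact hp.out.one_lt.ne hz
    let good : ℕ → Prop := fun m => ∃ W : Subgroup X, W ≤ Z0 ∧ W ≠ ⊥ ∧
      g ∈ Subgroup.normalizer (W : Set X) ∧ h ∈ Subgroup.normalizer (W : Set X) ∧ Nat.card W = m
    have hgood : ∃ m, good m := ⟨_, Z0, le_rfl, hZne, hZnorm g hg, hZnorm h hh, rfl⟩
    obtain ⟨W, hWZ, hWne, hgW, hhW, hWcard⟩ := Nat.find_spec hgood
    have hirr : ∀ U : Subgroup X, U ≤ W → g ∈ Subgroup.normalizer (U : Set X) →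
        h ∈ Subgroup.normalizer (U : Set X) → U = ⊥ ∨ U = W := by
      intro U hUW hgU hhU
      by_contra hne
      push Not at hne
      refine Nat.find_min hgood (m := Nat.card U) ?_
        ⟨U, hUW.trans hWZ, hne.1, hgU, hhU, rfl⟩
      rw [← hWcard]
      exact lt_of_le_of_ne (Subgroup.card_le_of_le hUW) fun e =>
        hne.2 (Subgroup.eq_of_le_of_card_ge hUW e.ge)
    haveI : IsMulCommutative W :=
      ⟨⟨fun a b => Subtype.ext ((hWZ b.2).2.1 a (hWZ a.2).1)⟩⟩
    have hWp : ∀ v ∈ W, v ^ p = 1 := fun v hv => (hWZ hv).2.2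
    have hqgW : ∀ v ∈ W, ⁅⁅v, g⁆, g⁆ = 1 := fun v hv => hqg v (hWZ hv).1
    have hqhW : ∀ v ∈ W, ⁅⁅v, h⁆, h⁆ = 1 := fun v hv => hqh v (hWZ hv).1
    by_cases hgc : g ∈ Subgroup.centralizer (W : Set X)
    swap
    · exact involves_qd_of_quadratic_irreducible hp2 hWp hgW hhW hqgW hqhW hgc hirr
    by_cases hhc : h ∈ Subgroup.centralizer (W : Set X)
    swap
    · exact involves_qd_of_quadratic_irreducible hp2 hWp hhW hgW hqhW hqgW hhc
        fun U h1 h2 h3 => hirr U h1 h3 h2
    -- pass to `N(W)/W`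
    let M := Subgroup.normalizer (W : Set X)
    have hPM : P ≤ M := fun u hu => (Subgroup.centralizer_le_normalizer (W : Set X))
      fun v hv => ((hWZ hv).2.1 u hu).symm
    let π := QuotientGroup.mk' (W.subgroupOf M)
    haveI : (W.subgroupOf M).Normal := Subgroup.normal_in_normalizer
    let P' : Subgroup (M ⧸ W.subgroupOf M) := (P.subgroupOf M).map π
    have hsurj : Function.Surjective (π.subgroupMap (P.subgroupOf M)) :=
      π.subgroupMap_surjective _
    have hlt : Nat.card P' < Nat.card P := by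
      rw [← Nat.card_congr (Subgroup.subgroupOfEquivOfLe hPM).toEquiv]
      refine lt_of_le_of_ne (Nat.card_le_card_of_surjective _ hsurj) fun e => ?_
      have hinj := ((Function.Surjective.bijective_of_nat_card_le hsurj e.ge)).1
      obtain ⟨⟨w, hw⟩, hw1⟩ := (Subgroup.bot_or_exists_ne_one W).resolve_left hWne
        |> fun ⟨w, hw, hw1⟩ => (⟨⟨w, hw⟩, hw1⟩ : ∃ w : W, (w : X) ≠ 1)
      have hwP : (⟨w, hPM (hWZ hw).1⟩ : M) ∈ P.subgroupOf M := (hWZ hw).1
      have := @hinj ⟨_, hwP⟩ 1 (Subtype.ext (by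
        show π ⟨w, _⟩ = π 1
        rw [map_one]
        exact (QuotientGroup.eq_one_iff _).2 hw))
      exact hw1 (congrArg (fun t : P.subgroupOf M => ((t : M) : X)) this)
    have hgM : g ∈ M := hgW
    have hhM : h ∈ M := hhW
    have hPn : ∀ (t : X) (ht : t ∈ M), t ∈ Subgroup.normalizer (P : Set X) →
        π ⟨t, ht⟩ ∈ Subgroup.normalizer (P' : Set (M ⧸ W.subgroupOf M)) := fun t ht htP =>
      Subgroup.le_normalizer_map π ⟨⟨t, ht⟩, Subgroup.mem_normalizer_iff.2 fun u =>
        Subgroup.mem_normalizer_iff.1 htP (u : X), rfl⟩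
    have hq' : ∀ (t : X) (ht : t ∈ M), (∀ v ∈ P, ⁅⁅v, t⁆, t⁆ = 1) →
        ∀ v ∈ P', ⁅⁅v, π ⟨t, ht⟩⁆, π ⟨t, ht⟩⁆ = 1 := by
      rintro t ht hq _ ⟨u, hu, rfl⟩
      rw [← map_commutatorElement, ← map_commutatorElement,
        show ⁅⁅u, (⟨t, ht⟩ : M)⁆, (⟨t, ht⟩ : M)⁆ = 1 from Subtype.ext (hq _ hu), map_one]
    have hcM : c ∈ M := (Subgroup.closure_le M).2 (Set.pair_subset hgM hhM) hc
    have hcW : c ∈ Subgroup.centralizer (W : Set X) :=
      (Subgroup.closure_le _).2 (Set.pair_subset hgc hhc) hc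
    refine CfsgLib.Amalgams.involves_of_involves_image π ?_ (QuotientGroup.mk'_surjective _)
    refine ih (hP.of_equiv (Subgroup.subgroupOfEquivOfLe hPM).symm |>.map π) (hPn g hgM hg)
      (hPn h hhM hh) (hq' g hgM hqg) (hq' h hhM hqh) (c := π ⟨c, hcM⟩) ?_ ?_
      (by have : Nat.card P' ≤ n := Nat.le_of_lt_succ (hlt.trans_le hn); exact this)
    · have : (⟨c, hcM⟩ : M) ∈ Subgroup.closure ({⟨g, hgM⟩, ⟨h, hhM⟩} : Set M) := by
        rw [← Subgroup.mem_map_iff_mem M.subtype_injective, MonoidHom.map_closure, Set.image_pair]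
        exact hc
      have := Subgroup.mem_map_of_mem π this
      rwa [MonoidHom.map_closure, Set.image_pair] at this
    · intro k hk
      refine hck (k + 1) fun u hu => ?_
      rw [← map_pow] at hk
      have hcomm := hk _ ⟨⟨u, hPM hu⟩, hu, rfl⟩
      rw [← map_mul, ← map_mul] at hcomm
      have hw : (u * c ^ p ^ k)⁻¹ * (c ^ p ^ k * u) ∈ W :=
        (QuotientGroup.eq.1 hcomm : (⟨u, hPM hu⟩ * ⟨c, hcM⟩ ^ p ^ k : M)⁻¹ *
          (⟨c, hcM⟩ ^ p ^ k * ⟨u, hPM hu⟩) ∈ W.subgroupOf M)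
      set d := c ^ p ^ k with hd
      have hdW : ∀ v ∈ W, v * d = d * v := fun v hv =>
        Subgroup.mem_centralizer_iff.1 (pow_mem hcW _) v hv
      set w := d * u * d⁻¹ * u⁻¹ with hwdef
      have hwW : w ∈ W := by
        have huW : u ∈ M := hPM hu
        have h1 : (u * d) * ((u * d)⁻¹ * (d * u)) * (u * d)⁻¹ ∈ W :=
          (Subgroup.mem_normalizer_iff.1 (mul_mem huW (pow_mem hcM _)) _).1 hw
        rwa [show (u * d) * ((u * d)⁻¹ * (d * u)) * (u * d)⁻¹ = w by rw [hwdef]; group] at h1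
      have hz := CfsgLib.ThompsonJ.conj_zpow_of_fix (y := d) (w := u) (c := w)
        (by rw [hwdef]; group) (hdW w hwW).symm (p : ℤ)
      rw [zpow_natCast, zpow_natCast, hWp w hwW, one_mul, mul_inv_eq_iff_eq_mul] at hz
      show u * c ^ p ^ (k + 1) = c ^ p ^ (k + 1) * u
      rw [pow_succ, pow_mul]
      exact hz.symm

/-- If `g` normalizes the `p`-group `P`, acts quadratically, and its image in `N(P)/C(P)` is
outside the `p`-core, then `Qd(p)` is involved. -/
theorem involves_qd_of_not_stable (hp2 : p ≠ 2) {P : Subgroup X} (hP : IsPGroup p P) {g : X}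
    (hg : g ∈ Subgroup.normalizer (P : Set X))
    (hq : ⁅⁅P, Subgroup.zpowers g⁆, Subgroup.zpowers g⁆ = ⊥)
    (hgO : QuotientGroup.mk (s := (Subgroup.centralizer (P : Set X)).subgroupOf
      (Subgroup.normalizer (P : Set X))) (⟨g, hg⟩ : ↥(Subgroup.normalizer (P : Set X))) ∉
        pCore p (↥(Subgroup.normalizer (P : Set X)) ⧸
          (Subgroup.centralizer (P : Set X)).subgroupOf (Subgroup.normalizer (P : Set X)))) :
    Involves ↥(Cfsg.qd p) X := by
  classical
  let N := Subgroup.normalizer (P : Set X)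
  let C := (Subgroup.centralizer (P : Set X)).subgroupOf N
  haveI : C.Normal := by
    rw [show C = (Subgroup.normalizerMonoidHom P).ker from (Subgroup.normalizerMonoidHom_ker P).symm]
    infer_instance
  let π := QuotientGroup.mk' C
  have hqg := CfsgLib.ThompsonJ.quadratic_zpowers_iff.1 hq
  by_contra hni
  refine hgO (CfsgLib.Subnormal.mem_pCore_of_forall_closure_pair fun q => ?_)
  obtain ⟨n, rfl⟩ := QuotientGroup.mk'_surjective C q
  let g' : N := ⟨g, hg⟩
  have hqh : ∀ v ∈ P, ⁅⁅v, ((n * g' * n⁻¹ : N) : X)⁆, ((n * g' * n⁻¹ : N) : X)⁆ = 1 := by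
    intro v hv
    have hv' : (n : X)⁻¹ * v * (n : X) ∈ P := (Subgroup.mem_normalizer_iff''.1 n.2 v).1 hv
    have := hqg _ hv'
    have h2 := congrArg (fun t => (n : X) * t * (n : X)⁻¹) this
    simp only [commutatorElement_def, mul_one, mul_inv_cancel] at h2
    rw [← h2]
    simp only [commutatorElement_def, Subgroup.coe_mul, Subgroup.coe_inv, g']
    group
  intro r
  have hr : (r : N ⧸ C) ∈ (Subgroup.closure ({g', n * g' * n⁻¹} : Set N)).map π := by
    rw [MonoidHom.map_closure, Set.image_pair, map_mul, map_mul, map_inv]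
    exact r.2
  obtain ⟨c, hc, hcr⟩ := hr
  by_contra hk
  push Not at hk
  refine hni (involves_qd_of_quadratic_pair hp2 hP hg (n * g' * n⁻¹).2 hqg hqh (c := (c : X)) ?_
    fun k hck => hk k (Subtype.ext ?_))
  · have := Subgroup.mem_map_of_mem N.subtype hc
    rwa [MonoidHom.map_closure, Set.image_pair] at this
  · rw [SubmonoidClass.coe_pow, ← hcr, ← map_pow]
    exact (QuotientGroup.eq_one_iff _).2 (Subgroup.mem_subgroupOf.2 (by simpa using hck))

/-- `Qd(p)`-free finite groups are `p`-stable in the normalizer form. -/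
theorem isNormalizerPStable_of_not_involves_qd (hp2 : p ≠ 2)
    (h : ¬ Involves ↥(Cfsg.qd p) X) : IsNormalizerPStable p X := fun _P hP _g hg hq => by
  by_contra hgO
  exact h (involves_qd_of_not_stable hp2 hP hg hq hgO)

open CfsgLib.Amalgams.Qd in
/-- A group isomorphic to `Qd(p)` is not `p`-stable. -/
theorem not_isNormalizerPStable_of_equiv {Q : Type*} [Group Q]
    (e : Q ≃* qdOver (ZMod p)) : ¬ IsNormalizerPStable p Q := by
  intro hst
  let P : Subgroup Q := (Amalgams.Qd.trans : Subgroup (qdOver (ZMod p))).comap e.toMonoidHom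
  have hP : IsPGroup p P :=
    (isPGroup_trans (F := ZMod p) (p := p)).comap_of_injective _ e.injective
  let u : qdOver (ZMod p) := aff (CfsgLib.ClassicalLinear.upS 1) 0 0
  let g : Q := e.symm u
  have hPn : Subgroup.normalizer (P : Set Q) = ⊤ := by
    haveI : (Amalgams.Qd.trans : Subgroup (qdOver (ZMod p))).Normal := by unfold Amalgams.Qd.trans; infer_instance
    exact Subgroup.normalizer_eq_top_iff.2 inferInstance
  have hg : g ∈ Subgroup.normalizer (P : Set Q) := hPn ▸ Subgroup.mem_top _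
  have hq : ⁅⁅P, Subgroup.zpowers g⁆, Subgroup.zpowers g⁆ = ⊥ := by
    rw [CfsgLib.ThompsonJ.quadratic_zpowers_iff]
    intro v hv
    obtain ⟨a, b, hab⟩ := mem_trans_iff.1 (show e v ∈ Amalgams.Qd.trans from hv)
    apply e.injective
    rw [map_commutatorElement, map_commutatorElement, map_one, hab,
      show e g = u from e.apply_symm_apply u]
    have h1 : ⁅aff (1 : SL(2, ZMod p)) a b, u⁆ = aff 1 (-b) 0 := by
      rw [commutatorElement_def, mul_inv_eq_iff_eq_mul, mul_inv_eq_iff_eq_mul]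
      simp only [u, aff_mul, aff_inj]
      simp [CfsgLib.ClassicalLinear.upS_coe]
    rw [h1, commutatorElement_eq_one_iff_mul_comm]
    simp only [u, aff_mul, aff_inj]
    simp [CfsgLib.ClassicalLinear.upS_coe]
  have hmem := hst P hP g hg hq
  let N := Subgroup.normalizer (P : Set Q)
  let C := (Subgroup.centralizer (P : Set Q)).subgroupOf N
  haveI : C.Normal := by
    rw [show C = (Subgroup.normalizerMonoidHom P).ker from (Subgroup.normalizerMonoidHom_ker P).symm]
    infer_instance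
  let φ : N →* SL(2, ZMod p) := lin.comp (e.toMonoidHom.comp N.subtype)
  have hCφ : C ≤ φ.ker := by
    intro n hn
    rw [MonoidHom.mem_ker]
    obtain ⟨A, a, b, hA⟩ := exists_eq_aff (e (n : Q))
    show lin (e (n : Q)) = 1
    rw [hA, lin_aff]
    have key : ∀ r s : ZMod p, aff A a b * aff 1 r s = aff 1 r s * aff A a b := by
      intro r s
      have h := Subgroup.mem_centralizer_iff.1 (Subgroup.mem_subgroupOf.1 hn)
        (e.symm (aff 1 r s)) (show e (e.symm (aff 1 r s)) ∈ Amalgams.Qd.trans by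
          rw [e.apply_symm_apply]; exact mem_trans_iff.2 ⟨r, s, rfl⟩)
      have h' := congrArg e h
      rw [map_mul, map_mul, e.apply_symm_apply, hA] at h'
      exact h'.symm
    have h10 := key 1 0
    have h01 := key 0 1
    simp only [aff_mul, aff_inj, mul_one, one_mul, Matrix.SpecialLinearGroup.coe_one, true_and]
      at h10 h01
    simp [add_comm] at h10 h01
    refine Matrix.SpecialLinearGroup.ext _ _ fun i j => ?_
    fin_cases i <;> fin_cases j <;> simp [h10, h01]
  have hsurj : Function.Surjective φ := by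
    intro A
    exact ⟨⟨e.symm (aff A 0 0), show _ ∈ Subgroup.normalizer (P : Set Q) by rw [hPn]; trivial⟩, by simp [φ, lin_aff]⟩
  let ψ : N ⧸ C →* SL(2, ZMod p) := QuotientGroup.lift C φ hCφ
  have hψ : Function.Surjective ψ := fun A => by
    obtain ⟨n, rfl⟩ := hsurj A
    exact ⟨n, rfl⟩
  have hle : (pCore p (N ⧸ C)).map ψ ≤ pCore p SL(2, ZMod p) :=
    CfsgLib.Cores.map_pCore_le_of_surjective hψ
  have := hle ⟨_, hmem, rfl⟩
  rw [pCore_SL2_eq_bot, Subgroup.mem_bot] at this
  have hu : lin u = 1 := by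
    rw [← e.apply_symm_apply u]
    exact this
  rw [lin_aff] at hu
  have := congrArg (fun A : SL(2, ZMod p) => (A : Matrix (Fin 2) (Fin 2) (ZMod p)) 0 1) hu
  simp [CfsgLib.ClassicalLinear.upS_coe] at this

end CfsgLib.QdFree
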